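import Groth.Agent.HomTanLib.Mor
import Groth.Agent.OmegaAffLib.Universal

/-!
# Infinitesimal automorphisms of the trivial first-order deformation of a scheme
-/

set_option autoImplicit false
set_option linter.style.haveILetI false
set_option linter.unusedSectionVars false
set_option backward.isDefEq.respectTransparency false
set_option backward.isDefEq.respectTransparency.types false
set_option maxHeartbeats 1000000

universe u

open CategoryTheory CategoryTheory.Limits AlgebraicGeometry TopologicalSpace Opposite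
open HomTanLib
open HilbObsLib (str sB)
open HilbGlueLib (D eps)

noncomputable section

namespace InfAutSchLib

variable {k : Type u} [Field k] {X : Scheme.{u}} {x : X ⟶ ArtFun.Art.specPt k}

variable (x) in
/-- Endomorphisms of `X ×_k k[ε]` over `k[ε]` restricting to the identity of `X`. -/
def End1 : Type u :=
  {ψ : ArtFun.Art.XA x (D k) ⟶ ArtFun.Art.XA x (D k) //
    ψ ≫ pullback.snd x (ArtFun.Art.specOver (D k)) = pullback.snd x (ArtFun.Art.specOver (D k)) ∧
      ArtFun.Art.XAincl x (D k) ≫ ψ = ArtFun.Art.XAincl x (D k)}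

/-- The associated deformation of the identity. -/
def toDef (ψ : End1 x) : Def1 x x (𝟙 X) :=
  ⟨ψ.1 ≫ pullback.fst x (ArtFun.Art.specOver (D k)), by
    rw [Category.assoc, pullback.condition, reassoc_of% ψ.2.1], by
    rw [← Category.assoc, ψ.2.2, ArtFun.Art.XAincl_fst]⟩

/-- Back. -/
def ofDef (φ : Def1 x x (𝟙 X)) : End1 x :=
  ⟨pullback.lift φ.1 (pullback.snd _ _) (φ.2.1.trans pullback.condition), pullback.lift_snd _ _ _, by
    apply pullback.hom_ext
    · rw [Category.assoc, pullback.lift_fst, φ.2.2, ArtFun.Art.XAincl_fst]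
    · rw [Category.assoc, pullback.lift_snd]⟩

/-- Endomorphisms are deformations of the identity. -/
def endEquiv : End1 x ≃ Def1 x x (𝟙 X) where
  toFun := toDef
  invFun := ofDef
  left_inv ψ := Subtype.ext (by
    apply pullback.hom_ext
    · exact pullback.lift_fst _ _ _
    · exact (pullback.lift_snd _ _ _).trans ψ.2.1.symm)
  right_inv φ := Subtype.ext (pullback.lift_fst _ _ _)

/-- Composition. -/
def comp (ψ ψ' : End1 x) : End1 x :=
  ⟨ψ.1 ≫ ψ'.1, by rw [Category.assoc, ψ'.2.1, ψ.2.1], by rw [← Category.assoc, ψ.2.2, ψ'.2.2]⟩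

variable (x) in
/-- The identity. -/
def one : End1 x := ⟨𝟙 _, Category.id_comp _, Category.comp_id _⟩

theorem ev_comp (ψ ψ' : End1 x) (W : X.Opens) (s : Γ(X, W)) :
    cfU x W (ev (toDef (comp ψ ψ')) W s) = cfU x W (ev (toDef ψ) W s) + cfU x W (ev (toDef ψ') W s) := by
  have h' : pre x W ≤ ψ.1 ⁻¹ᵁ pre x W := le_preimage (toDef ψ) W
  let pull : Γ(ArtFun.Art.XA x (D k), pre x W) →+* Γ(ArtFun.Art.XA x (D k), pre x W) :=
    (ψ.1.appLE (pre x W) (pre x W) h').hom
  have h1 : ev (toDef (comp ψ ψ')) W s = pull (ev (toDef ψ') W s) := by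
    have h2 : (ψ'.1 ≫ pullback.fst x (ArtFun.Art.specOver (D k))).appLE W (pre x W) (le_preimage (toDef ψ') W) ≫
        ψ.1.appLE (pre x W) (pre x W) h' =
          (ψ.1 ≫ ψ'.1 ≫ pullback.fst x (ArtFun.Art.specOver (D k))).appLE W (pre x W)
            (h'.trans (fun _ hz => le_preimage (toDef ψ') W hz)) :=
      Scheme.Hom.appLE_comp_appLE _ _ _ _ _ _ _
    refine Eq.trans ?_ congr($(h2.symm) s)
    show ((ψ.1 ≫ ψ'.1) ≫ pullback.fst x (ArtFun.Art.specOver (D k))).appLE W (pre x W) _ s = _
    simp only [Category.assoc]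
  have h3 : ∀ b, pull (emU x W b) = ev (toDef ψ) W b := fun b => by
    have h4 : (pullback.fst x (ArtFun.Art.specOver (D k))).appLE W (pre x W) le_rfl ≫
        ψ.1.appLE (pre x W) (pre x W) h' =
          (ψ.1 ≫ pullback.fst x (ArtFun.Art.specOver (D k))).appLE W (pre x W) (le_preimage (toDef ψ) W) :=
      Scheme.Hom.appLE_comp_appLE _ _ _ _ _ _ _
    exact congr($(h4) b)
  have h5 : pull (EU x W) = EU x W := by
    have h6 : str (R := CommRingCat.of (D k)) (ArtFun.Art.XApr x (D k)) (pre x W) ≫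
        ψ.1.appLE (pre x W) (pre x W) h' = str (R := CommRingCat.of (D k)) (ArtFun.Art.XApr x (D k)) (pre x W) := by
      rw [str, Category.assoc, Scheme.Hom.appLE_comp_appLE]
      congr 1
      simp only [ψ.2.1]
    exact congr($(h6) eps)
  have d0 : ∀ (φ : Def1 x x (𝟙 X)) (b : Γ(X, W)), ev φ W b = emU x W b + EU x W * emU x W (cfU x W (ev φ W b)) := fun φ b => by
    conv_lhs => rw [decomp x W (ev φ W b)]
    rw [show rdU x W (ev φ W b) = b from (rdU_ev φ W b)]
  rw [h1, d0 (toDef ψ') s, map_add, map_mul, h3, h3, h5, d0 (toDef ψ) s,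
    d0 (toDef ψ) (cfU x W (ev (toDef ψ') W s))]
  rw [(cfU_spec x W _ _).2]
  generalize cfU x W (ev (toDef ψ) W s) = c
  generalize cfU x W (ev (toDef ψ) W (cfU x W (ev (toDef ψ') W s))) = e
  rw [(cfU_spec x W s _).2]
  generalize cfU x W (ev (toDef ψ') W s) = b
  refine Eq.trans (congrArg (cfU x W) ?_) (cfU_spec x W s (c + b)).2
  rw [map_add]
  linear_combination (emU x W e) * EU_sq x W

/-- Endomorphisms are homomorphisms out of the differentials, composition being addition. -/
theorem exists_end_equiv [QuasiSeparated x] :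
    ∃ h : End1 x ≃ (Omega.sheaf x ⟶ Coh.structureModule X), ∀ ψ ψ', h (comp ψ ψ') = h ψ + h ψ' := by
  let M := (Scheme.Modules.pushforward (𝟙 X)).obj (Coh.structureModule X)
  let dd : End1 x → OmegaSh.Der x M := fun ψ => derOf (toDef ψ)
  have hdd : Function.Bijective dd :=
    (derOf_bijective (x := x) (yY := x) (f := 𝟙 X) (Category.id_comp x)).comp endEquiv.bijective
  let u : (Omega.sheaf x ⟶ Coh.structureModule X) → OmegaSh.Der x M := fun α =>
    (OmegaSh.dOmega x).postcomp (α ≫ (Scheme.Modules.pushforwardId X).inv.app _).val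
  have hu : Function.Bijective u := by
    have h0 : Function.Bijective fun α : Omega.sheaf x ⟶ M => ((OmegaSh.dOmega x).postcomp α.val : OmegaSh.Der x M) :=
      ⟨fun α β e => ((OmegaAffLib.isUniversal_dOmega (f := x)) M _).unique rfl e.symm,
        fun Dr => (OmegaAffLib.isUniversal_dOmega (f := x) M Dr).exists⟩
    exact h0.comp (((Scheme.Modules.pushforwardId X).symm.app (Coh.structureModule X)).homToEquiv).bijective
  let h : End1 x ≃ (Omega.sheaf x ⟶ Coh.structureModule X) := (Equiv.ofBijective dd hdd).trans (Equiv.ofBijective u hu).symm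
  refine ⟨h, fun ψ ψ' => hu.1 ?_⟩
  have hh : ∀ χ, u (h χ) = dd χ := fun χ => (Equiv.ofBijective u hu).apply_symm_apply _
  rw [hh]
  refine PresheafOfModules.Derivation.ext ?_
  ext W s
  have e1 : (u (h ψ + h ψ')).d s = (u (h ψ)).d (X := W) s + (u (h ψ')).d (X := W) s := by
    show ((h ψ + h ψ') ≫ (Scheme.Modules.pushforwardId X).inv.app _).val.app W ((OmegaSh.dOmega x).d s) = _
    rw [Preadditive.add_comp]
    rfl
  refine Eq.trans ?_ e1.symm
  rw [hh, hh]
  show OmegaSh.strSect X _ (cfU x W.unop (ev (toDef (comp ψ ψ')) W.unop s)) = _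
  rw [ev_comp, map_add]
  rfl

end InfAutSchLib

end
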